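import Cfsg.Agent.H871.Par3
import Cfsg.Agent.H659.Sp4Stage

/-!
# S5806, task 2973 (helper689): no symplectic core of degree 6 of type `U₄(2)` in characteristic `≥ 5`

`five_elem` : `L` acts faithfully and fixes a non-degenerate alternating form, `a ∈ L` is an involution commuting with its
conjugates under `y`, `y ^ 5 = 1`, `a` and `y` do not commute ⟹ the degree is at least 10.
`u42_six` : `Core P`, `FixA P`, degree 6, `Soc P ≃* PSU 4 K 2`, `|K| = 4`, `p ≥ 5` ⟹ `False`.
-/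

set_option autoImplicit false
set_option linter.unusedSectionVars false

namespace Cfsg.Agent.H689.Six

open Module Cfsg Cfsg.Geo Matrix Cfsg.Agent.H912.Bd Cfsg.Agent.H871.Par Cfsg.Agent.H915.LD

universe u v

section gen

variable {L : Type*} [Group L]

/-- the conjugates of `a` under the powers of `y` -/
def orb (a y : L) : Set L := Set.range fun k : ℕ => y ^ k * a * (y ^ k)⁻¹

theorem comm_orb {a y : L} (hy : y ^ 5 = 1) (h1 : Commute a (y * a * y⁻¹))
    (h2 : Commute a (y ^ 2 * a * (y ^ 2)⁻¹)) : ∀ x ∈ orb a y, ∀ z ∈ orb a y, x * z = z * x := by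
  have key : ∀ k : ℕ, Commute a (y ^ k * a * (y ^ k)⁻¹) := by
    intro k
    have hk : y ^ k = y ^ (k % 5) := by
      conv_lhs => rw [← Nat.div_add_mod k 5, pow_add, pow_mul, hy, one_pow, one_mul]
    rw [hk]
    have hlt : k % 5 < 5 := Nat.mod_lt _ (by norm_num)
    have hconj : ∀ j : ℕ, Commute a (y ^ j * a * (y ^ j)⁻¹) → Commute a ((y ^ j)⁻¹ * a * y ^ j) := by
      intro j hj
      have h3 := (hj.symm)
      show a * ((y ^ j)⁻¹ * a * y ^ j) = (y ^ j)⁻¹ * a * y ^ j * a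
      have h4 : y ^ j * a * (y ^ j)⁻¹ * a = a * (y ^ j * a * (y ^ j)⁻¹) := h3
      calc a * ((y ^ j)⁻¹ * a * y ^ j) = (y ^ j)⁻¹ * (y ^ j * a * (y ^ j)⁻¹ * a) * y ^ j := by group
        _ = (y ^ j)⁻¹ * (a * (y ^ j * a * (y ^ j)⁻¹)) * y ^ j := by rw [h4]
        _ = _ := by group
    have e3 : y ^ 3 = (y ^ 2)⁻¹ := by rw [eq_inv_iff_mul_eq_one, ← pow_add]; exact hy
    have e4 : y ^ 4 = (y ^ 1)⁻¹ := by rw [eq_inv_iff_mul_eq_one, ← pow_add]; exact hy
    interval_cases (k % 5)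
    · simp
    · simpa using h1
    · exact h2
    · rw [e3, inv_inv]; exact hconj 2 h2
    · rw [e4, inv_inv]; exact hconj 1 (by simpa using h1)
  have key2 : ∀ i j : ℕ, i ≤ j → Commute (y ^ i * a * (y ^ i)⁻¹) (y ^ j * a * (y ^ j)⁻¹) := by
    intro i j hij
    obtain ⟨k, rfl⟩ := Nat.exists_eq_add_of_le hij
    have h3 := key k
    have e : y ^ (i + k) * a * (y ^ (i + k))⁻¹ = y ^ i * (y ^ k * a * (y ^ k)⁻¹) * (y ^ i)⁻¹ := by
      rw [pow_add]; group
    rw [e]
    show _ * _ = _ * _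
    calc y ^ i * a * (y ^ i)⁻¹ * (y ^ i * (y ^ k * a * (y ^ k)⁻¹) * (y ^ i)⁻¹)
        = y ^ i * (a * (y ^ k * a * (y ^ k)⁻¹)) * (y ^ i)⁻¹ := by group
      _ = y ^ i * ((y ^ k * a * (y ^ k)⁻¹) * a) * (y ^ i)⁻¹ := by rw [h3.eq]
      _ = _ := by group
  rintro _ ⟨i, rfl⟩ _ ⟨j, rfl⟩
  rcases le_total i j with h | h
  · exact key2 i j h
  · exact (key2 j i h).symm

end gen

variable {K : Type*} [Field K] [IsAlgClosed K] {V : Type*} [AddCommGroup V] [Module K V] [FiniteDimensional K V]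

theorem five_elem {L : Type*} [Group L] (ρ : L →* Module.End K V) (hρ : Function.Injective ρ) (h2 : (2 : K) ≠ 0)
    (B : LinearMap.BilinForm K V) (hnd : ∀ u, (∀ v, B u v = 0) → u = 0) (hinv : ∀ g u v, B (ρ g u) (ρ g v) = B u v)
    (halt : B.IsAlt) {a y : L} (ha : a * a = 1) (hy : y ^ 5 = 1) (h1 : Commute a (y * a * y⁻¹))
    (hh : Commute a (y ^ 2 * a * (y ^ 2)⁻¹)) (hne : y * a * y⁻¹ ≠ a) : 10 ≤ finrank K V := by
  have hcomm := comm_orb hy h1 hh
  set A : Subgroup L := Subgroup.closure (orb a y) with hAdef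
  have hcen : A ≤ Subgroup.centralizer (A : Set L) := by
    have h3 : orb a y ⊆ Subgroup.centralizer (A : Set L) := by
      intro x hx
      rw [SetLike.mem_coe, Subgroup.mem_centralizer_iff]
      have h4 : A ≤ Subgroup.centralizer {x} := by
        rw [hAdef, Subgroup.closure_le]
        intro z hz
        rw [SetLike.mem_coe, Subgroup.mem_centralizer_iff]
        intro w hw
        rw [Set.mem_singleton_iff] at hw
        rw [hw]
        exact hcomm _ hx _ hz
      intro z hz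
      have h5 := h4 hz
      rw [Subgroup.mem_centralizer_iff] at h5
      exact (h5 x rfl).symm
    rw [hAdef, Subgroup.closure_le]
    exact h3
  have hA : ∀ a ∈ A, ∀ b ∈ A, a * b = b * a := by
    intro x hx z hz
    have h3 := hcen hx
    rw [Subgroup.mem_centralizer_iff] at h3
    exact (h3 z hz).symm
  have hA2 : ∀ x ∈ A, x * x = 1 := by
    intro x hx
    have hx' := hx
    rw [hAdef] at hx
    induction hx using Subgroup.closure_induction with
    | mem x hx =>
      obtain ⟨k, rfl⟩ := hx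
      show y ^ k * a * (y ^ k)⁻¹ * (y ^ k * a * (y ^ k)⁻¹) = 1
      calc y ^ k * a * (y ^ k)⁻¹ * (y ^ k * a * (y ^ k)⁻¹) = y ^ k * (a * a) * (y ^ k)⁻¹ := by group
        _ = 1 := by rw [ha]; group
    | one => exact mul_one 1
    | mul x z hx hz ihx ihz =>
      have h3 := hA x hx z hz
      calc x * z * (x * z) = x * (z * x) * z := by group
        _ = x * (x * z) * z := by rw [h3]
        _ = (x * x) * (z * z) := by group
        _ = 1 := by rw [ihx hx, ihz hz, one_mul]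
    | inv x hx ih =>
      have h3 := ih hx
      rw [← _root_.mul_inv_rev, h3, inv_one]
  have hyA : ∀ x ∈ A, y * x * y⁻¹ ∈ A := by
    have h3 : A ≤ A.comap (MulAut.conj y).toMonoidHom := by
      conv_lhs => rw [hAdef]
      rw [Subgroup.closure_le]
      rintro _ ⟨k, rfl⟩
      show y * (y ^ k * a * (y ^ k)⁻¹) * y⁻¹ ∈ A
      apply Subgroup.subset_closure
      refine ⟨k + 1, ?_⟩
      show y ^ (k + 1) * a * (y ^ (k + 1))⁻¹ = _
      rw [pow_succ']; group
    exact fun x hx => h3 hx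
  have haA : a ∈ A := Subgroup.subset_closure ⟨0, by simp⟩
  have hA2' : ∀ a ∈ A, a ^ 2 = 1 := fun a ha => by rw [pow_two]; exact hA2 a ha
  have hN : ((2 : ℕ) : K) ≠ 0 := by exact_mod_cast h2
  have h5 : Nat.Prime 5 := by norm_num
  have := prime_mul_le ρ hA hN hA2' hyA h5 (fun x _ => by rw [hy]; group) haA
    (fun h => hne (mul_inv_eq_one.1 (hρ (h.trans (map_one ρ).symm)))) (d := 2) (by
    intro χ hχ
    have hev : Even (finrank K (wt ρ A χ)) := by
      apply even_wt ρ hA hN hA2' B hnd hinv halt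
      intro a
      rw [← wt_mul ρ hχ, show a * a = 1 from Subtype.ext (hA2 a a.2), wt_one ρ hχ]
    obtain ⟨k, hk⟩ := hev
    have : Nontrivial (wt ρ A χ) := Submodule.nontrivial_iff_ne_bot.2 hχ
    have h3 : 0 < finrank K (wt ρ A χ) := finrank_pos
    omega)
  omega

/-! ### The elements of `Sp₄(3)` -/

open Cfsg.Agent.H659.Sp4

/-- the involution -/
def aM : Matrix (Fin 2 ⊕ Fin 2) (Fin 2 ⊕ Fin 2) (ZMod 3) :=
  Matrix.fromBlocks !![0, 1; 0, 0] !![0, 1; 2, 0] !![0, 2; 1, 0] !![0, 0; 1, 0]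

/-- the element of order 5 -/
def yM : Matrix (Fin 2 ⊕ Fin 2) (Fin 2 ⊕ Fin 2) (ZMod 3) :=
  Matrix.fromBlocks !![2, 2; 2, 0] !![1, 0; 0, 1] !![2, 0; 0, 2] !![0, 0; 0, 0]

theorem aM_mem : aM ∈ Matrix.symplecticGroup (Fin 2) (ZMod 3) := by
  rw [SymplecticGroup.mem_iff]; decide +kernel
theorem yM_mem : yM ∈ Matrix.symplecticGroup (Fin 2) (ZMod 3) := by
  rw [SymplecticGroup.mem_iff]; decide +kernel

def aS : Sp := ⟨aM, aM_mem⟩
def yS : Sp := ⟨yM, yM_mem⟩

theorem a_sq : aS * aS = 1 := Subtype.ext (by decide +kernel)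
theorem y_five : yS ^ 5 = 1 := Subtype.ext (by decide +kernel)
theorem y_inv : yS⁻¹ = yS ^ 4 := by
  rw [inv_eq_iff_mul_eq_one, ← pow_succ']; exact y_five
theorem y2_inv : (yS ^ 2)⁻¹ = yS ^ 3 := by
  rw [inv_eq_iff_mul_eq_one, ← pow_add]; exact y_five

theorem rel1 : aS * (yS * aS * yS ^ 4) = negG * ((yS * aS * yS ^ 4) * aS) ∨
    aS * (yS * aS * yS ^ 4) = (yS * aS * yS ^ 4) * aS := by
  have h : (aM * (yM * aM * yM ^ 4) = -((yM * aM * yM ^ 4) * aM)) ∨
    (aM * (yM * aM * yM ^ 4) = ((yM * aM * yM ^ 4) * aM)) := by decide +kernel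
  rcases h with h | h
  · left
    apply Subtype.ext
    show aM * (yM * aM * yM ^ 4) = negG.1 * ((yM * aM * yM ^ 4) * aM)
    rw [negG_val, h, neg_mul, one_mul]
  · right
    exact Subtype.ext h

theorem rel2 : aS * (yS ^ 2 * aS * yS ^ 3) = negG * ((yS ^ 2 * aS * yS ^ 3) * aS) ∨
    aS * (yS ^ 2 * aS * yS ^ 3) = (yS ^ 2 * aS * yS ^ 3) * aS := by
  have h : (aM * (yM ^ 2 * aM * yM ^ 3) = -((yM ^ 2 * aM * yM ^ 3) * aM)) ∨
    (aM * (yM ^ 2 * aM * yM ^ 3) = ((yM ^ 2 * aM * yM ^ 3) * aM)) := by decide +kernel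
  rcases h with h | h
  · left
    apply Subtype.ext
    show aM * (yM ^ 2 * aM * yM ^ 3) = negG.1 * ((yM ^ 2 * aM * yM ^ 3) * aM)
    rw [negG_val, h, neg_mul, one_mul]
  · right
    exact Subtype.ext h

theorem rel3 : yS * aS * yS ^ 4 ≠ aS ∧ yS * aS * yS ^ 4 ≠ negG * aS := by
  have h : (yM * aM * yM ^ 4 ≠ aM) ∧ (yM * aM * yM ^ 4 ≠ -aM) := by decide +kernel
  refine ⟨fun e => h.1 (congrArg Subtype.val e), fun e => h.2 ?_⟩
  have e' : yM * aM * yM ^ 4 = negG.1 * aM := congrArg Subtype.val e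
  rw [e', negG_val, neg_mul, one_mul]

/-- the elements of `PSp₄(3)` -/
theorem exists_elems : ∃ a y : PSp 2 (ZMod 3), a * a = 1 ∧ y ^ 5 = 1 ∧ Commute a (y * a * y⁻¹) ∧
    Commute a (y ^ 2 * a * (y ^ 2)⁻¹) ∧ y * a * y⁻¹ ≠ a := by
  let π : Sp →* PSp 2 (ZMod 3) := QuotientGroup.mk' (Subgroup.center Sp)
  have hneg : π negG = 1 := by
    refine (QuotientGroup.eq_one_iff negG).2 ?_
    rw [Subgroup.mem_center_iff]
    intro g
    apply Subtype.ext
    change g.1 * negG.1 = negG.1 * g.1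
    rw [negG_val, mul_neg, neg_mul, mul_one, one_mul]
  refine ⟨π aS, π yS, ?_, ?_, ?_, ?_, ?_⟩
  · rw [← map_mul, a_sq, map_one]
  · rw [← map_pow, y_five, map_one]
  · rw [← map_inv, y_inv, ← map_mul, ← map_mul]
    show _ * _ = _ * _
    rw [← map_mul, ← map_mul]
    rcases rel1 with h | h
    · rw [h, map_mul, hneg, one_mul]
    · rw [h]
  · rw [← map_pow, ← map_inv, y2_inv, ← map_mul, ← map_mul]
    show _ * _ = _ * _
    rw [← map_mul, ← map_mul]
    rcases rel2 with h | h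
    · rw [h, map_mul, hneg, one_mul]
    · rw [h]
  · rw [← map_inv, y_inv, ← map_mul, ← map_mul]
    intro h
    have h1 : (yS * aS * yS ^ 4)⁻¹ * aS ∈ Subgroup.center Sp := QuotientGroup.eq.1 h
    rcases center_sp h1 with h2 | h2
    · exact rel3.1 (inv_mul_eq_one.1 h2)
    · apply rel3.2
      have h3 : aS = yS * aS * yS ^ 4 * negG := inv_mul_eq_iff_eq_mul.1 h2
      have hc : ∀ g : Sp, g * negG = negG * g := by
        intro g
        apply Subtype.ext
        change g.1 * negG.1 = negG.1 * g.1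
        rw [negG_val, mul_neg, neg_mul, mul_one, one_mul]
      conv_rhs => rw [h3, hc, ← mul_assoc, negG_sq, one_mul]

section main

variable {ι : Type} [Fintype ι] [DecidableEq ι] {F : Type u} [Field F] [Finite F] {P : Subgroup (GL ι F)}

/-- the form over the algebraic closure -/
theorem exists_alt [Nonempty ι] (hA : FixA P) (h2 : (2 : F) ≠ 0) :
    ∃ B : LinearMap.BilinForm (AlgebraicClosure F) (ι → AlgebraicClosure F),
      (∀ u, (∀ v, B u v = 0) → u = 0) ∧ (∀ g u v, B (repP P g u) (repP P g v) = B u v) ∧ B.IsAlt := by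
  obtain ⟨f, hf, hfix⟩ := hA
  obtain ⟨B, h1, h3, h4⟩ := exists_form hf.bilinear hf.nondegenerate hfix
  refine ⟨B, h1, h3, ?_⟩
  have hskew : (gram f)ᵀ = - gram f := by
    ext i j
    exact hf.skew _ _
  intro u
  have h5 : B u u = - B u u := by
    conv_lhs => rw [h4, Matrix.dotProduct_mulVec, ← Matrix.mulVec_transpose, dotProduct_comm]
    rw [h4, ← Matrix.transpose_map, hskew]
    have h6 : (-gram f).map (algebraMap F (AlgebraicClosure F)) = - (gram f).map (algebraMap F (AlgebraicClosure F)) := by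
      ext i j
      simp
    rw [h6, Matrix.neg_mulVec, dotProduct_neg]
  have h6 : (2 : AlgebraicClosure F) * B u u = 0 := by linear_combination h5
  exact (mul_eq_zero.1 h6).resolve_left (two_ne h2)

/-- **Task 2973**, for `PSp₄(3)` -/
theorem psp43_six (p : ℕ) [hpp : Fact p.Prime] [CharP F p] (hp : 5 ≤ p) (hC : Core P) (hA : FixA P)
    (hn : Fintype.card ι = 6) (e : Soc P ≃* PSp 2 (ZMod 3)) : False := by
  have hne := hC.nonempty
  have h2 : (2 : F) ≠ 0 := by
    intro h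
    have h1 : ((2 : ℕ) : F) = 0 := by exact_mod_cast h
    rw [CharP.cast_eq_zero_iff F p] at h1
    have := Nat.le_of_dvd (by norm_num) h1
    omega
  have hbot : (scalars ι F).subgroupOf P = ⊥ := by
    rcases u42_stage hC p (by omega) (by omega) (by omega) (k := ZMod 3) rfl e with h | ⟨-, h, -⟩ | ⟨-, h, -⟩
    · omega
    · exact h
    · exact h
  have hinj : Function.Injective (e.toMonoidHom.comp (toSoc P)) := by
    rw [← MonoidHom.ker_eq_bot_iff, ker_comp e, hbot]
  let E : P ≃* PSp 2 (ZMod 3) :=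
    MulEquiv.ofBijective (e.toMonoidHom.comp (toSoc P)) ⟨hinj, e.surjective.comp (toSoc_surjective P)⟩
  obtain ⟨a, y, ha, hy, h1, h3, h4⟩ := exists_elems
  obtain ⟨B, hB1, hB2, hB3⟩ := exists_alt hA h2
  have hc : ∀ {c d : PSp 2 (ZMod 3)}, Commute c d → Commute (E.symm c) (E.symm d) := fun {c d} h => h.map E.symm
  have h5 := five_elem (repP P) (repP_injective P) (two_ne h2) B hB1 hB2 hB3 (a := E.symm a) (y := E.symm y)
    (by rw [← map_mul, ha, map_one]) (by rw [← map_pow, hy, map_one])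
    (by rw [← map_inv, ← map_mul, ← map_mul]; exact hc h1)
    (by rw [← map_pow, ← map_inv, ← map_mul, ← map_mul]; exact hc h3)
    (by rw [← map_inv, ← map_mul, ← map_mul]; exact fun h => h4 (E.symm.injective h))
  rw [Module.finrank_fintype_fun_eq_card, hn] at h5
  omega

/-- **Task 2973** -/
theorem u42_six (p : ℕ) [hpp : Fact p.Prime] [CharP F p] (hp : 5 ≤ p) (hC : Core P) (hA : FixA P)
    (hn : Fintype.card ι = 6) {K : Type} [Field K] [Fintype K] (hK : Fintype.card K = 4) (e : Soc P ≃* PSU 4 K 2) :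
    False := by
  obtain ⟨e4⟩ := Cfsg.Agent.S0822.result (F := K) (K := ZMod 3) hK rfl
  exact psp43_six p hp hC hA hn (e.trans e4)

end main

end Cfsg.Agent.H689.Six
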